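import Groth.Agent.Lib.Ideal.EffCartier

/-!
# Evaluation of sections and of inverse image ideals at points
-/

universe u

open CategoryTheory AlgebraicGeometry TopologicalSpace Opposite

namespace Groth.Agent.Lib.BlowLemma85.Eval

open Groth.Agent.Lib.Ideal.Comap

variable {X Y : Scheme.{u}}

/-- A section vanishes at a point. -/
noncomputable def vanishIdeal (U : X.Opens) (x : X) (hx : x ∈ U) : Ideal Γ(X, U) :=
  RingHom.ker (X.evaluation U x hx).hom

theorem mem_vanishIdeal {U : X.Opens} {x : X} (hx : x ∈ U) {g : Γ(X, U)} :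
    g ∈ vanishIdeal U x hx ↔ x ∉ X.basicOpen g := by
  rw [vanishIdeal, RingHom.mem_ker]
  exact X.evaluation_eq_zero_iff_notMem_basicOpen x hx g

theorem vanishIdeal_isPrime {U : X.Opens} {x : X} (hx : x ∈ U) : (vanishIdeal U x hx).IsPrime :=
  RingHom.ker_isPrime _

theorem appLE_mem_vanishIdeal (f : X ⟶ Y) {U : Y.Opens} {V : X.Opens} (e : V ≤ f ⁻¹ᵁ U) (x : X)
    (hx : x ∈ V) (g : Γ(Y, U)) :
    (f.appLE U V e).hom g ∈ vanishIdeal V x hx ↔ g ∈ vanishIdeal U (f x) (e hx) := by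
  rw [mem_vanishIdeal, mem_vanishIdeal, Scheme.basicOpen_appLE]
  exact not_congr ⟨fun h => h.2, fun h => ⟨hx, h⟩⟩

theorem comap_vanishIdeal (f : X ⟶ Y) {U : Y.Opens} {V : X.Opens} (e : V ≤ f ⁻¹ᵁ U) (x : X)
    (hx : x ∈ V) :
    (vanishIdeal V x hx).comap (f.appLE U V e).hom = vanishIdeal U (f x) (e hx) :=
  Ideal.ext fun g => appLE_mem_vanishIdeal f e x hx g

theorem vanishIdeal_congr {U : X.Opens} {x y : X} (h : x = y) (hx : x ∈ U) :
    vanishIdeal U x hx = vanishIdeal U y (h ▸ hx) := by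
  subst h
  rfl

theorem mem_support_iff {I : X.IdealSheafData} {x : X} {U : X.affineOpens} (hx : x ∈ U.1) :
    x ∈ I.support ↔ I.ideal U ≤ vanishIdeal U.1 x hx := by
  rw [Scheme.IdealSheafData.mem_support_iff_of_mem hx, Scheme.mem_zeroLocus_iff]
  exact forall₂_congr fun g _ => (mem_vanishIdeal hx).symm

/-- The kernel of a morphism vanishes on its image. -/
theorem ker_ideal_le_vanishIdeal (f : X ⟶ Y) (U : Y.affineOpens) (x : X) (hx : f x ∈ U.1) :
    f.ker.ideal U ≤ vanishIdeal U.1 (f x) hx := by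
  intro g hg
  have h0 : f.app U.1 g = 0 := Scheme.Hom.ideal_ker_le f U hg
  rw [mem_vanishIdeal]
  intro h
  have : x ∈ X.basicOpen (f.app U.1 g) := by
    rw [← Scheme.preimage_basicOpen]
    exact h
  rw [h0, Scheme.basicOpen_zero] at this
  exact this

/-- A section whose vanishing locus contains a set contains its closure in that open. -/
theorem mem_vanishIdeal_of_closure {U : X.Opens} {x : X} (hx : x ∈ U) {T : Set X}
    (hxT : x ∈ closure T) {g : Γ(X, U)}
    (h : ∀ t ∈ T, ∀ ht : t ∈ U, g ∈ vanishIdeal U t ht) : g ∈ vanishIdeal U x hx := by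
  rw [mem_vanishIdeal]
  intro hg
  obtain ⟨t, ht, htT⟩ := mem_closure_iff.mp hxT _ (X.basicOpen g).isOpen hg
  exact (mem_vanishIdeal (X.basicOpen_le g ht)).mp (h t htT _) ht

end Groth.Agent.Lib.BlowLemma85.Eval
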